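import Groth.Prelude.Def_FlatMod2
import Groth.Prelude.Def_Coh
import Groth.Agent.Lib.Helper55.FL.ModSchemeOpen
import Groth.Agent.Lib.Lead.PullbackAff6
import Groth.Agent.Lib.Lead.CohAff4
import Groth.Agent.Lib.Helper55.FamFlat.Bridge
import Groth.Agent.Lib.Helper54.SectionIso
import Groth.Agent.Lib.Helper73.FamFlatAdic.General

set_option autoImplicit false
set_option linter.style.haveILetI false
set_option linter.unusedSectionVars false
universe u

open AlgebraicGeometry CategoryTheory Limits TopologicalSpace Opposite TensorProduct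

namespace Groth.Agent.Lib.Helper73.FamFlatAdic

open Groth.Agent.Lib.Lead.QCohAff Groth.Agent.Lib.Lead.CohAff Groth.Agent.Lib.Helper55.FL
  Groth.Agent.Lib.Lead.PullbackAff Groth.Agent.Lib.Helper55.FamFlat

/-- powers of the maximal ideal under a ring isomorphism of local rings -/
theorem mem_maximalIdeal_pow_iff_of_ringEquiv {S T : Type u} [CommRing S] [CommRing T]
    [IsLocalRing S] [IsLocalRing T] (e : S ≃+* T) (n : ℕ) (b : S) :
    e b ∈ IsLocalRing.maximalIdeal T ^ n ↔ b ∈ IsLocalRing.maximalIdeal S ^ n := by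
  rw [← IsLocalRing.map_ringEquiv_maximalIdeal e, ← Ideal.map_pow]
  constructor
  · intro h
    obtain ⟨x, hx, hxe⟩ := (Ideal.mem_map_of_equiv e (e b)).mp h
    rwa [← e.injective hxe]
  · intro h
    exact Ideal.mem_map_of_mem _ h

/-- the section map of `Spec A → Spec O_{Y,y} → Y` over an open containing `y`. -/
theorem appLE_specMap_fromSpecStalk {Y : Scheme.{u}} (y : Y) {V : Y.Opens} (hyV : y ∈ V)
    {A : Type u} [CommRing A] (φ : (Y.presheaf.stalk y : Type u) →+* A)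
    (e : (⊤ : (Spec (CommRingCat.of A)).Opens) ≤
      (Spec.map (CommRingCat.ofHom φ) ≫ Y.fromSpecStalk y) ⁻¹ᵁ V) :
    (Spec.map (CommRingCat.ofHom φ) ≫ Y.fromSpecStalk y).appLE V ⊤ e =
      Y.presheaf.germ V y hyV ≫ CommRingCat.ofHom φ ≫
        (Scheme.ΓSpecIso (CommRingCat.of A)).inv := by
  have hx' : (⊤ : (Spec (Y.presheaf.stalk y)).Opens) ≤ (Y.fromSpecStalk y) ⁻¹ᵁ V := by
    intro t _
    have hr : Y.fromSpecStalk y t ∈ Set.range (Y.fromSpecStalk y) := ⟨_, rfl⟩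
    rw [Scheme.range_fromSpecStalk] at hr
    exact hr.mem_open V.2 hyV
  have ht : (⊤ : (Spec (CommRingCat.of A)).Opens) ≤ (Spec.map (CommRingCat.ofHom φ)) ⁻¹ᵁ ⊤ :=
    fun _ _ => trivial
  have h1 : (Spec.map (CommRingCat.ofHom φ) ≫ Y.fromSpecStalk y).appLE V ⊤ e =
      (Y.fromSpecStalk y).appLE V ⊤ hx' ≫ (Spec.map (CommRingCat.ofHom φ)).appLE ⊤ ⊤ ht := by
    rw [Scheme.Hom.appLE_comp_appLE]
  have h2 : (Spec.map (CommRingCat.ofHom φ)).appLE ⊤ ⊤ ht =
      (Spec.map (CommRingCat.ofHom φ)).appTop := Scheme.Hom.appLE_eq_app _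
  rw [h1, h2, Groth.Agent.Lib.Helper54.SectionIso.fromSpecStalk_appLE_top hyV, Category.assoc,
    ← Scheme.ΓSpecIso_inv_naturality]
  rfl


open CategoryTheory.Limits in
theorem isFlatOverAt_of_family_adic {X Y : Scheme.{u}} [IsLocallyNoetherian Y]
    (f : X ⟶ Y) [LocallyOfFiniteType f] (F : X.Modules) (hF : Coh.IsCoh F) (x : X)
    {ι : Type u} (A : ι → Type u) [∀ i, CommRing (A i)] [∀ i, IsLocalRing (A i)]
    (φ : ∀ i, (Y.presheaf.stalk (f x) : Type u) →+* A i) [∀ i, IsLocalHom (φ i)]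
    (htop : ∀ N : ℕ, ∃ s : Finset (ι × ℕ),
      ⨅ p ∈ s, Ideal.comap (φ p.1) (IsLocalRing.maximalIdeal (A p.1) ^ p.2) ≤
        IsLocalRing.maximalIdeal ↑(Y.presheaf.stalk (f x)) ^ N)
    (hflat : ∀ (i : ι)
      (x' : ↥(pullback f (Spec.map (CommRingCat.ofHom (φ i)) ≫ Y.fromSpecStalk (f x)))),
      pullback.fst f (Spec.map (CommRingCat.ofHom (φ i)) ≫ Y.fromSpecStalk (f x)) x' = x →
      pullback.snd f (Spec.map (CommRingCat.ofHom (φ i)) ≫ Y.fromSpecStalk (f x)) x' =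
        IsLocalRing.closedPoint (A i) →
      FlatMod.IsFlatOverAt
        (pullback.snd f (Spec.map (CommRingCat.ofHom (φ i)) ≫ Y.fromSpecStalk (f x)))
        ((Scheme.Modules.pullback
          (pullback.fst f (Spec.map (CommRingCat.ofHom (φ i)) ≫ Y.fromSpecStalk (f x)))).obj F)
        x') :
    FlatMod.IsFlatOverAt f F x := by
  haveI : F.IsQuasicoherent := hF.1
  have hFT := hF.2
  haveI : IsLocallyNoetherian X := LocallyOfFiniteType.isLocallyNoetherian f
  obtain ⟨V, hV, hyV, -⟩ :=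
    exists_isAffineOpen_mem_and_subset (U := (⊤ : Y.Opens)) (x := f x) trivial
  obtain ⟨U, hU, hxU, hUV⟩ :=
    exists_isAffineOpen_mem_and_subset (U := f ⁻¹ᵁ V) (x := x) hyV
  rw [isFlatOverAt_iff_flat_localizedModule f F hU hV hUV x hxU]
  -- per-index geometric data
  let g : ∀ i, Spec (CommRingCat.of (A i)) ⟶ Y :=
    fun i => Spec.map (CommRingCat.ofHom (φ i)) ≫ Y.fromSpecStalk (f x)
  let W : ∀ i, (pullback f (g i)).Opens :=
    fun i => (pullback.fst f (g i)) ⁻¹ᵁ U ⊓ (pullback.snd f (g i)) ⁻¹ᵁ ⊤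
  have hc : ∀ i, IsPullback (pullback.fst f (g i)) (pullback.snd f (g i)) f (g i) :=
    fun i => IsPullback.of_hasPullback _ _
  have hV' : ∀ i, IsAffineOpen (⊤ : (Spec (CommRingCat.of (A i))).Opens) :=
    fun i => isAffineOpen_top _
  have e' : ∀ i, (⊤ : (Spec (CommRingCat.of (A i))).Opens) ≤ (g i) ⁻¹ᵁ V := by
    intro i t _
    have hr : Y.fromSpecStalk (f x) (Spec.map (CommRingCat.ofHom (φ i)) t) ∈
        Set.range (Y.fromSpecStalk (f x)) := ⟨_, rfl⟩
    rw [Scheme.range_fromSpecStalk] at hr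
    exact hr.mem_open V.2 hyV
  have hW : ∀ i, IsAffineOpen (W i) := fun i => by
    have : IsAffine V := hV
    have : IsAffine (⊤ : (Spec (CommRingCat.of (A i))).Opens) := hV' i
    have : IsAffine U := hU
    exact .of_isIso (Scheme.Hom.isPullback_resLE (hc i) (e' i) hUV rfl).isoPullback.hom
  have hpush := fun i => (isIso_pushoutSection_iff (hc i) (e' i) hUV rfl).mp
    (isIso_pushoutSection_of_isAffineOpen (hc i) (e' i) hUV rfl hV (hV' i) hU)
  -- ring-level instances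
  haveI locA' : ∀ i, IsLocalRing Γ(Spec (CommRingCat.of (A i)), ⊤) :=
    fun i => isLocalRing_Γtop (A i)
  letI algAB : Algebra Γ(Y, V) Γ(X, U) := (f.appLE V U hUV).hom.toAlgebra
  letI modAM : Module Γ(Y, V) Γ(F, U) :=
    Module.compHom Γ(F, U) (f.appLE V U hUV).hom
  haveI towM : IsScalarTower Γ(Y, V) Γ(X, U) Γ(F, U) :=
    IsScalarTower.of_algebraMap_smul fun _ _ => rfl
  haveI noeR : IsNoetherianRing Γ(Y, V) := IsLocallyNoetherian.component_noetherian ⟨V, hV⟩
  haveI noeB : IsNoetherianRing Γ(X, U) := IsLocallyNoetherian.component_noetherian ⟨U, hU⟩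
  haveI finM : Module.Finite Γ(X, U) Γ(F, U) := finite_sections_of_isFiniteType F hFT hU
  letI algAA' : ∀ i, Algebra Γ(Y, V) Γ(Spec (CommRingCat.of (A i)), ⊤) :=
    fun i => ((g i).appLE V ⊤ (e' i)).hom.toAlgebra
  letI algBB' : ∀ i, Algebra Γ(X, U) Γ(pullback f (g i), W i) :=
    fun i => ((pullback.fst f (g i)).appLE U (W i) inf_le_left).hom.toAlgebra
  letI algA'B' : ∀ i, Algebra Γ(Spec (CommRingCat.of (A i)), ⊤) Γ(pullback f (g i), W i) :=
    fun i => ((pullback.snd f (g i)).appLE ⊤ (W i) inf_le_right).hom.toAlgebra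
  letI algAB' : ∀ i, Algebra Γ(Y, V) Γ(pullback f (g i), W i) :=
    fun i => ((algebraMap Γ(X, U) Γ(pullback f (g i), W i)).comp
      (algebraMap Γ(Y, V) Γ(X, U))).toAlgebra
  haveI t1 : ∀ i, IsScalarTower Γ(Y, V) Γ(X, U) Γ(pullback f (g i), W i) :=
    fun i => IsScalarTower.of_algebraMap_eq' rfl
  haveI t2 : ∀ i, IsScalarTower Γ(Y, V)
      Γ(Spec (CommRingCat.of (A i)), ⊤) Γ(pullback f (g i), W i) :=
    fun i => IsScalarTower.of_algebraMap_eq' (by
      have := congrArg CommRingCat.Hom.hom (hpush i).w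
      exact this)
  haveI hP : ∀ i, Algebra.IsPushout Γ(Y, V)
      Γ(Spec (CommRingCat.of (A i)), ⊤) Γ(X, U) Γ(pullback f (g i), W i) := fun i => by
    apply Algebra.IsPushout.symm
    exact CommRingCat.isPushout_iff_isPushout.mp (hpush i)
  -- the local ring of `Y` at `f x`
  letI algRR₀ : Algebra Γ(Y, V) (Y.presheaf.stalk (f x)) :=
    TopCat.Presheaf.algebra_section_stalk Y.presheaf ⟨f x, hyV⟩
  haveI locR₀ : IsLocalization.AtPrime (Y.presheaf.stalk (f x))
      (hV.primeIdealOf ⟨f x, hyV⟩).asIdeal := hV.isLocalization_stalk ⟨f x, hyV⟩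
  letI algR₀A' : ∀ i, Algebra (Y.presheaf.stalk (f x)) Γ(Spec (CommRingCat.of (A i)), ⊤) :=
    fun i => ((Scheme.ΓSpecIso (CommRingCat.of (A i))).inv.hom.comp (φ i)).toAlgebra
  haveI towRR₀A' : ∀ i, IsScalarTower Γ(Y, V) (Y.presheaf.stalk (f x))
      Γ(Spec (CommRingCat.of (A i)), ⊤) := fun i =>
    IsScalarTower.of_algebraMap_eq' (by
      have h := congrArg CommRingCat.Hom.hom
        (appLE_specMap_fromSpecStalk (f x) hyV (φ i) (e' i))
      exact h)
  haveI locHom : ∀ i, IsLocalHom (algebraMap (Y.presheaf.stalk (f x))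
      Γ(Spec (CommRingCat.of (A i)), ⊤)) := fun i => by
    haveI : IsLocalHom (Scheme.ΓSpecIso (CommRingCat.of (A i))).inv.hom := isLocalHom_of_isIso _
    exact RingHom.isLocalHom_comp _ _
  have htop' : ∀ N : ℕ, ∃ s : Finset (ι × ℕ),
      ⨅ p ∈ s, Ideal.comap (algebraMap (Y.presheaf.stalk (f x))
          Γ(Spec (CommRingCat.of (A p.1)), ⊤))
        (IsLocalRing.maximalIdeal Γ(Spec (CommRingCat.of (A p.1)), ⊤) ^ p.2) ≤
        IsLocalRing.maximalIdeal ↑(Y.presheaf.stalk (f x)) ^ N := by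
    intro N
    obtain ⟨s, hs⟩ := htop N
    refine ⟨s, le_trans (le_of_eq ?_) hs⟩
    refine iInf_congr fun p => iInf_congr fun _ => ?_
    ext a
    rw [Ideal.mem_comap, Ideal.mem_comap]
    exact mem_maximalIdeal_pow_iff_of_ringEquiv (ΓtopEquiv (A p.1)).symm p.2 (φ p.1 a)
  have h𝔭₀ : (hU.primeIdealOf ⟨x, hxU⟩).asIdeal.comap (algebraMap Γ(Y, V) Γ(X, U)) =
      (hV.primeIdealOf ⟨f x, hyV⟩).asIdeal :=
    congrArg PrimeSpectrum.asIdeal
      (IsAffineOpen.comap_primeIdealOf_appLE V hV U hU hUV hxU)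
  refine flat_localized_of_family_adic (R := Γ(Y, V)) (B := Γ(X, U)) (M := Γ(F, U))
    (hU.primeIdealOf ⟨x, hxU⟩).asIdeal (hV.primeIdealOf ⟨f x, hyV⟩).asIdeal h𝔭₀
    (Y.presheaf.stalk (f x))
    (fun i => Γ(Spec (CommRingCat.of (A i)), ⊤)) htop'
    (fun i => Γ(pullback f (g i), W i)) ?_
  intro i 𝔮 h𝔮 hB hA'
  obtain ⟨x', hx'W, hprime⟩ := exists_point_of_prime (hW i) ⟨𝔮, h𝔮⟩
  have hq : ((hW i).primeIdealOf ⟨x', hx'W⟩).asIdeal = 𝔮 :=
    congrArg PrimeSpectrum.asIdeal hprime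
  have hfst : pullback.fst f (g i) x' = x := by
    have hmem : pullback.fst f (g i) x' ∈ U := hx'W.1
    apply primeIdealOf_injective hU hmem hxU
    rw [← IsAffineOpen.comap_primeIdealOf_appLE U hU (W i) (hW i) inf_le_left hx'W]
    apply PrimeSpectrum.ext
    change Ideal.comap _ ((hW i).primeIdealOf ⟨x', hx'W⟩).asIdeal = _
    rw [hq]
    exact hB
  have hsnd : pullback.snd f (g i) x' = IsLocalRing.closedPoint (A i) := by
    have h1 := IsAffineOpen.comap_primeIdealOf_appLE (f := pullback.snd f (g i)) ⊤ (hV' i)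
      (W i) (hW i) inf_le_right hx'W
    have h2 : (hV' i).primeIdealOf ⟨pullback.snd f (g i) x', trivial⟩ =
        IsLocalRing.closedPoint Γ(Spec (CommRingCat.of (A i)), ⊤) := by
      rw [← h1]
      apply PrimeSpectrum.ext
      change Ideal.comap _ ((hW i).primeIdealOf ⟨x', hx'W⟩).asIdeal = _
      rw [hq]
      exact hA'
    have h3 := (hV' i).fromSpec_primeIdealOf ⟨pullback.snd f (g i) x', trivial⟩
    rw [h2, IsAffineOpen.fromSpec_top, Scheme.isoSpec_Spec_inv] at h3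
    refine (show _ = pullback.snd f (g i) x' from h3).symm.trans ?_
    haveI : IsLocalHom (Scheme.ΓSpecIso (CommRingCat.of (A i))).inv.hom :=
      isLocalHom_of_isIso _
    exact IsLocalRing.comap_closedPoint _
  have key := hflat i x' hfst hsnd
  haveI qcG : ((Scheme.Modules.pullback (pullback.fst f (g i))).obj F).IsQuasicoherent :=
    inferInstance
  rw [isFlatOverAt_iff_flat_localizedModule (pullback.snd f (g i)) _ (hW i) (hV' i)
    inf_le_right x' hx'W] at key
  subst hq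
  letI modA'G : Module Γ(Spec (CommRingCat.of (A i)), ⊤)
      Γ((Scheme.Modules.pullback (pullback.fst f (g i))).obj F, W i) :=
    Module.compHom _ ((pullback.snd f (g i)).appLE ⊤ (W i) inf_le_right).hom
  haveI towG : IsScalarTower Γ(Spec (CommRingCat.of (A i)), ⊤) Γ(pullback f (g i), W i)
      Γ((Scheme.Modules.pullback (pullback.fst f (g i))).obj F, W i) :=
    IsScalarTower.of_algebraMap_smul fun _ _ => rfl
  let e0 := sectionsPullbackEquiv (pullback.fst f (g i)) F (hW i) hU inf_le_left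
  let f1 := LocalizedModule.mkLinearMap
    ((hW i).primeIdealOf ⟨x', hx'W⟩).asIdeal.primeCompl
    (Γ(pullback f (g i), W i) ⊗[Γ(X, U)] Γ(F, U))
  haveI : IsLocalizedModule ((hW i).primeIdealOf ⟨x', hx'W⟩).asIdeal.primeCompl
      (f1 ∘ₗ e0.toLinearMap) := IsLocalizedModule.of_linearEquiv_right _ _ e0
  let e1 := IsLocalizedModule.linearEquiv ((hW i).primeIdealOf ⟨x', hx'W⟩).asIdeal.primeCompl
    (LocalizedModule.mkLinearMap ((hW i).primeIdealOf ⟨x', hx'W⟩).asIdeal.primeCompl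
      Γ((Scheme.Modules.pullback (pullback.fst f (g i))).obj F, W i))
    (f1 ∘ₗ e0.toLinearMap)
  exact Module.Flat.of_linearEquiv (e1.symm.restrictScalars Γ(Spec (CommRingCat.of (A i)), ⊤))

end Groth.Agent.Lib.Helper73.FamFlatAdic
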