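import Groth.Agent.Lib.Helper73.FamFlatAdic.GeneralI

set_option autoImplicit false
set_option linter.style.haveILetI false
universe u
open TensorProduct

namespace Groth.Agent.Lib.Helper73.FamFlatAdic

/-- Artin–Rees: for a finite injective algebra, the `I`-adic topology of `R₀` is induced from the
`I A'`-adic topology of `A'`. -/
theorem exists_comap_map_pow_le {R₀ A' : Type u} [CommRing R₀] [IsNoetherianRing R₀] [CommRing A']
    [Algebra R₀ A'] [Module.Finite R₀ A'] (hinj : Function.Injective (algebraMap R₀ A'))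
    (I : Ideal R₀) (N : ℕ) :
    ∃ n : ℕ, Ideal.comap (algebraMap R₀ A') ((I.map (algebraMap R₀ A')) ^ n) ≤ I ^ N := by
  obtain ⟨k, hk⟩ := Ideal.exists_pow_inf_eq_pow_smul I (LinearMap.range (Algebra.linearMap R₀ A'))
  refine ⟨N + k, ?_⟩
  intro a ha
  rw [Ideal.mem_comap, ← Ideal.map_pow] at ha
  have h1 : algebraMap R₀ A' a ∈ (I ^ (N + k) • ⊤ : Submodule R₀ A') := by
    rw [Ideal.smul_top_eq_map]
    exact ha
  have h2 : algebraMap R₀ A' a ∈ LinearMap.range (Algebra.linearMap R₀ A') := ⟨a, rfl⟩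
  have h3 : algebraMap R₀ A' a ∈
      I ^ (N + k) • ⊤ ⊓ LinearMap.range (Algebra.linearMap R₀ A') := ⟨h1, h2⟩
  rw [hk (N + k) (Nat.le_add_left k N), Nat.add_sub_cancel] at h3
  have h4 : I ^ N • (I ^ k • ⊤ ⊓ LinearMap.range (Algebra.linearMap R₀ A')) ≤
      I ^ N • LinearMap.range (Algebra.linearMap R₀ A') :=
    Submodule.smul_mono (le_refl _) inf_le_right
  have h5 := h4 h3
  rw [LinearMap.range_eq_map, ← Submodule.map_smul'', Submodule.mem_map] at h5
  obtain ⟨b, hb, hbe⟩ := h5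
  have hba : b = a := hinj hbe
  rw [← hba]
  simpa using hb

/-- ring-level form of the finite injective base change criterion -/
theorem flat_localized_of_finite_injective
    {R : Type u} [CommRing R] [IsNoetherianRing R]
    {B : Type u} [CommRing B] [Algebra R B] [IsNoetherianRing B]
    {M : Type u} [AddCommGroup M] [Module B M] [Module R M] [IsScalarTower R B M] [Module.Finite B M]
    (𝔭 : Ideal B) [𝔭.IsPrime] (𝔭₀ : Ideal R) [𝔭₀.IsPrime] (h𝔭₀ : 𝔭.comap (algebraMap R B) = 𝔭₀)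
    (R₀ : Type u) [CommRing R₀] [IsLocalRing R₀] [Algebra R R₀] [IsLocalization.AtPrime R₀ 𝔭₀]
    (A' : Type u) [CommRing A'] [Algebra R A'] [Algebra R₀ A'] [IsScalarTower R R₀ A']
    [Module.Finite R₀ A'] (hinj : Function.Injective (algebraMap R₀ A'))
    (B' : Type u) [CommRing B'] [Algebra R B'] [Algebra A' B'] [Algebra B B']
    [IsScalarTower R A' B'] [IsScalarTower R B B'] [Algebra.IsPushout R A' B B']
    (hflat : ∀ (𝔮 : Ideal B') [𝔮.IsPrime], 𝔮.comap (algebraMap B B') = 𝔭 →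
        (𝔮.comap (algebraMap A' B')).IsMaximal →
        Module.Flat A' (LocalizedModule 𝔮.primeCompl (B' ⊗[B] M))) :
    Module.Flat R (LocalizedModule 𝔭.primeCompl M) := by
  haveI noeR₀ : IsNoetherianRing R₀ := IsLocalization.isNoetherianRing 𝔭₀.primeCompl R₀ inferInstance
  haveI : Algebra.IsIntegral R₀ A' := Algebra.IsIntegral.of_finite R₀ A'
  refine flat_localized_of_family_adic_ideal (R := R) (B := B) (M := M) 𝔭 𝔭₀ h𝔭₀ R₀
    (ι := PUnit.{u + 1}) (fun _ => A')
    (fun _ => (IsLocalRing.maximalIdeal R₀).map (algebraMap R₀ A')) (fun _ => le_rfl) ?_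
    (fun _ => B') ?_
  · intro N
    obtain ⟨n, hn⟩ := exists_comap_map_pow_le hinj (IsLocalRing.maximalIdeal R₀) N
    refine ⟨{(PUnit.unit, n)}, ?_⟩
    simpa using hn
  · intro _ 𝔮 h𝔮 hB hI
    refine hflat 𝔮 hB ?_
    have h1 : IsLocalRing.maximalIdeal R₀ ≤
        (𝔮.comap (algebraMap A' B')).comap (algebraMap R₀ A') := Ideal.map_le_iff_le_comap.mp hI
    have h2 : (𝔮.comap (algebraMap A' B')).comap (algebraMap R₀ A') = IsLocalRing.maximalIdeal R₀ :=
      ((IsLocalRing.maximalIdeal.isMaximal R₀).eq_of_le Ideal.IsPrime.ne_top' h1).symm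
    exact Ideal.isMaximal_of_isIntegral_of_isMaximal_comap (R := R₀) _
      (h2 ▸ IsLocalRing.maximalIdeal.isMaximal R₀)

end Groth.Agent.Lib.Helper73.FamFlatAdic
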