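import Groth.Agent.Lib.Helper73.FamFlatAdic.BridgeAdic
import Groth.Agent.Lib.Helper73.FamFlatAdic.Finite
import Groth.Agent.Lib.Helper22.FlatBC

set_option autoImplicit false
set_option linter.style.haveILetI false
set_option linter.unusedSectionVars false
universe u

open AlgebraicGeometry CategoryTheory Limits TopologicalSpace Opposite TensorProduct

namespace Groth.Agent.Lib.Helper73.FamFlatAdic

open Groth.Agent.Lib.Lead.QCohAff Groth.Agent.Lib.Lead.CohAff Groth.Agent.Lib.Helper55.FL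
  Groth.Agent.Lib.Lead.PullbackAff Groth.Agent.Lib.Helper55.FamFlat

/-- the section map of `Spec A' → Spec O_{Y,y} → Y` over an open containing `y` (bundled form). -/
theorem appLE_specMap_fromSpecStalk' {Y : Scheme.{u}} (y : Y) {V : Y.Opens} (hyV : y ∈ V)
    {A' : CommRingCat.{u}} (φ : Y.presheaf.stalk y ⟶ A')
    (e : (⊤ : (Spec A').Opens) ≤ (Spec.map φ ≫ Y.fromSpecStalk y) ⁻¹ᵁ V) :
    (Spec.map φ ≫ Y.fromSpecStalk y).appLE V ⊤ e =
      Y.presheaf.germ V y hyV ≫ φ ≫ (Scheme.ΓSpecIso A').inv := by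
  have hx' : (⊤ : (Spec (Y.presheaf.stalk y)).Opens) ≤ (Y.fromSpecStalk y) ⁻¹ᵁ V := by
    intro t _
    have hr : Y.fromSpecStalk y t ∈ Set.range (Y.fromSpecStalk y) := ⟨_, rfl⟩
    rw [Scheme.range_fromSpecStalk] at hr
    exact hr.mem_open V.2 hyV
  have ht : (⊤ : (Spec A').Opens) ≤ (Spec.map φ) ⁻¹ᵁ ⊤ := fun _ _ => trivial
  have h1 : (Spec.map φ ≫ Y.fromSpecStalk y).appLE V ⊤ e =
      (Y.fromSpecStalk y).appLE V ⊤ hx' ≫ (Spec.map φ).appLE ⊤ ⊤ ht := by
    rw [Scheme.Hom.appLE_comp_appLE]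
  have h2 : (Spec.map φ).appLE ⊤ ⊤ ht = (Spec.map φ).appTop := Scheme.Hom.appLE_eq_app _
  rw [h1, h2, Groth.Agent.Lib.Helper54.SectionIso.fromSpecStalk_appLE_top hyV, Category.assoc,
    ← Scheme.ΓSpecIso_inv_naturality]

open CategoryTheory.Limits in
theorem isFlatOverAt_of_finite_injective {X Y : Scheme.{u}} [IsLocallyNoetherian Y]
    (f : X ⟶ Y) [LocallyOfFiniteType f] (F : X.Modules) (hF : Coh.IsCoh F) (x : X)
    (A' : CommRingCat.{u}) (φ : Y.presheaf.stalk (f.base x) ⟶ A') (hfin : φ.hom.Finite)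
    (hinj : Function.Injective φ.hom)
    (hflat : ∀ x' : ↥(pullback f (Spec.map φ ≫ Y.fromSpecStalk (f.base x))),
      pullback.fst f (Spec.map φ ≫ Y.fromSpecStalk (f.base x)) x' = x →
      IsClosed ({pullback.snd f (Spec.map φ ≫ Y.fromSpecStalk (f.base x)) x'} : Set ↥(Spec A')) →
      FlatMod.IsFlatOverAt (pullback.snd f (Spec.map φ ≫ Y.fromSpecStalk (f.base x)))
        ((Scheme.Modules.pullback
          (pullback.fst f (Spec.map φ ≫ Y.fromSpecStalk (f.base x)))).obj F) x') :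
    FlatMod.IsFlatOverAt f F x := by
  haveI : F.IsQuasicoherent := hF.1
  have hFT := hF.2
  haveI : IsLocallyNoetherian X := LocallyOfFiniteType.isLocallyNoetherian f
  obtain ⟨V, hV, hyV, -⟩ :=
    exists_isAffineOpen_mem_and_subset (U := (⊤ : Y.Opens)) (x := f.base x) trivial
  obtain ⟨U, hU, hxU, hUV⟩ :=
    exists_isAffineOpen_mem_and_subset (U := f ⁻¹ᵁ V) (x := x) hyV
  rw [isFlatOverAt_iff_flat_localizedModule f F hU hV hUV x hxU]
  let g : Spec A' ⟶ Y := Spec.map φ ≫ Y.fromSpecStalk (f.base x)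
  let W : (pullback f g).Opens := (pullback.fst f g) ⁻¹ᵁ U ⊓ (pullback.snd f g) ⁻¹ᵁ ⊤
  have hc : IsPullback (pullback.fst f g) (pullback.snd f g) f g := IsPullback.of_hasPullback _ _
  have hV' : IsAffineOpen (⊤ : (Spec A').Opens) := isAffineOpen_top _
  have e' : (⊤ : (Spec A').Opens) ≤ g ⁻¹ᵁ V := by
    intro t _
    have hr : Y.fromSpecStalk (f.base x) (Spec.map φ t) ∈
        Set.range (Y.fromSpecStalk (f.base x)) := ⟨_, rfl⟩
    rw [Scheme.range_fromSpecStalk] at hr
    exact hr.mem_open V.2 hyV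
  have hW : IsAffineOpen W := by
    have : IsAffine V := hV
    have : IsAffine (⊤ : (Spec A').Opens) := hV'
    have : IsAffine U := hU
    exact .of_isIso (Scheme.Hom.isPullback_resLE hc e' hUV rfl).isoPullback.hom
  have hpush := (isIso_pushoutSection_iff hc e' hUV rfl).mp
    (isIso_pushoutSection_of_isAffineOpen hc e' hUV rfl hV hV' hU)
  -- ring-level instances
  letI algAB : Algebra Γ(Y, V) Γ(X, U) := (f.appLE V U hUV).hom.toAlgebra
  letI modAM : Module Γ(Y, V) Γ(F, U) :=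
    Module.compHom Γ(F, U) (f.appLE V U hUV).hom
  haveI towM : IsScalarTower Γ(Y, V) Γ(X, U) Γ(F, U) :=
    IsScalarTower.of_algebraMap_smul fun _ _ => rfl
  haveI noeR : IsNoetherianRing Γ(Y, V) := IsLocallyNoetherian.component_noetherian ⟨V, hV⟩
  haveI noeB : IsNoetherianRing Γ(X, U) := IsLocallyNoetherian.component_noetherian ⟨U, hU⟩
  haveI finM : Module.Finite Γ(X, U) Γ(F, U) := finite_sections_of_isFiniteType F hFT hU
  letI algAA' : Algebra Γ(Y, V) Γ(Spec A', ⊤) := (g.appLE V ⊤ e').hom.toAlgebra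
  letI algBB' : Algebra Γ(X, U) Γ(pullback f g, W) :=
    ((pullback.fst f g).appLE U W inf_le_left).hom.toAlgebra
  letI algA'B' : Algebra Γ(Spec A', ⊤) Γ(pullback f g, W) :=
    ((pullback.snd f g).appLE ⊤ W inf_le_right).hom.toAlgebra
  letI algAB' : Algebra Γ(Y, V) Γ(pullback f g, W) :=
    ((algebraMap Γ(X, U) Γ(pullback f g, W)).comp (algebraMap Γ(Y, V) Γ(X, U))).toAlgebra
  haveI t1 : IsScalarTower Γ(Y, V) Γ(X, U) Γ(pullback f g, W) :=
    IsScalarTower.of_algebraMap_eq' rfl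
  haveI t2 : IsScalarTower Γ(Y, V) Γ(Spec A', ⊤) Γ(pullback f g, W) :=
    IsScalarTower.of_algebraMap_eq' (by
      have := congrArg CommRingCat.Hom.hom hpush.w
      exact this)
  haveI hP : Algebra.IsPushout Γ(Y, V) Γ(Spec A', ⊤) Γ(X, U) Γ(pullback f g, W) := by
    apply Algebra.IsPushout.symm
    exact CommRingCat.isPushout_iff_isPushout.mp hpush
  -- the local ring of `Y` at `f x`
  letI algRR₀ : Algebra Γ(Y, V) (Y.presheaf.stalk (f.base x)) :=
    TopCat.Presheaf.algebra_section_stalk Y.presheaf ⟨f.base x, hyV⟩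
  haveI locR₀ : IsLocalization.AtPrime (Y.presheaf.stalk (f.base x))
      (hV.primeIdealOf ⟨f.base x, hyV⟩).asIdeal := hV.isLocalization_stalk ⟨f.base x, hyV⟩
  letI algR₀A' : Algebra (Y.presheaf.stalk (f.base x)) Γ(Spec A', ⊤) :=
    ((Scheme.ΓSpecIso A').inv.hom.comp φ.hom).toAlgebra
  haveI towRR₀A' : IsScalarTower Γ(Y, V) (Y.presheaf.stalk (f.base x)) Γ(Spec A', ⊤) :=
    IsScalarTower.of_algebraMap_eq' (by
      have h := congrArg CommRingCat.Hom.hom
        (appLE_specMap_fromSpecStalk' (f.base x) hyV φ e')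
      exact h)
  have hinvsurj : Function.Surjective (Scheme.ΓSpecIso A').inv.hom :=
    (Scheme.ΓSpecIso A').commRingCatIsoToRingEquiv.symm.surjective
  have hinvinj : Function.Injective (Scheme.ΓSpecIso A').inv.hom :=
    (Scheme.ΓSpecIso A').commRingCatIsoToRingEquiv.symm.injective
  haveI finA' : Module.Finite (Y.presheaf.stalk (f.base x)) Γ(Spec A', ⊤) := by
    have h1 : ((Scheme.ΓSpecIso A').inv.hom.comp φ.hom).Finite :=
      RingHom.Finite.comp (RingHom.Finite.of_surjective _ hinvsurj) hfin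
    exact RingHom.finite_algebraMap.mp h1
  have hinj' : Function.Injective
      (algebraMap (Y.presheaf.stalk (f.base x)) Γ(Spec A', ⊤)) := hinvinj.comp hinj
  have h𝔭₀ : (hU.primeIdealOf ⟨x, hxU⟩).asIdeal.comap (algebraMap Γ(Y, V) Γ(X, U)) =
      (hV.primeIdealOf ⟨f.base x, hyV⟩).asIdeal :=
    congrArg PrimeSpectrum.asIdeal
      (IsAffineOpen.comap_primeIdealOf_appLE V hV U hU hUV hxU)
  refine flat_localized_of_finite_injective (R := Γ(Y, V)) (B := Γ(X, U)) (M := Γ(F, U))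
    (hU.primeIdealOf ⟨x, hxU⟩).asIdeal (hV.primeIdealOf ⟨f.base x, hyV⟩).asIdeal h𝔭₀
    (Y.presheaf.stalk (f.base x)) Γ(Spec A', ⊤) hinj' Γ(pullback f g, W) ?_
  intro 𝔮 h𝔮 hB hmax
  obtain ⟨x', hx'W, hprime⟩ := exists_point_of_prime hW ⟨𝔮, h𝔮⟩
  have hq : (hW.primeIdealOf ⟨x', hx'W⟩).asIdeal = 𝔮 :=
    congrArg PrimeSpectrum.asIdeal hprime
  have hfst : pullback.fst f g x' = x := by
    have hmem : pullback.fst f g x' ∈ U := hx'W.1
    apply primeIdealOf_injective hU hmem hxU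
    rw [← IsAffineOpen.comap_primeIdealOf_appLE U hU W hW inf_le_left hx'W]
    apply PrimeSpectrum.ext
    change Ideal.comap _ (hW.primeIdealOf ⟨x', hx'W⟩).asIdeal = _
    rw [hq]
    exact hB
  have hclosed : IsClosed ({pullback.snd f g x'} : Set ↥(Spec A')) := by
    have h1 := IsAffineOpen.comap_primeIdealOf_appLE (f := pullback.snd f g) ⊤ hV'
      W hW inf_le_right hx'W
    have h2 : (hV'.primeIdealOf ⟨pullback.snd f g x', trivial⟩).asIdeal.IsMaximal := by
      rw [← h1]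
      change (Ideal.comap _ (hW.primeIdealOf ⟨x', hx'W⟩).asIdeal).IsMaximal
      rw [hq]
      exact hmax
    have h3 := hV'.fromSpec_primeIdealOf ⟨pullback.snd f g x', trivial⟩
    rw [IsAffineOpen.fromSpec_top, Scheme.isoSpec_Spec_inv] at h3
    have h4 : pullback.snd f g x' =
        (Spec.map (Scheme.ΓSpecIso A').inv) (hV'.primeIdealOf ⟨pullback.snd f g x', trivial⟩) :=
      h3.symm
    rw [h4]
    refine (PrimeSpectrum.isClosed_singleton_iff_isMaximal _).mpr ?_
    exact Ideal.comap_isMaximal_of_surjective (Scheme.ΓSpecIso A').inv.hom hinvsurj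
  have key := hflat x' hfst hclosed
  haveI qcG : ((Scheme.Modules.pullback (pullback.fst f g)).obj F).IsQuasicoherent :=
    inferInstance
  rw [isFlatOverAt_iff_flat_localizedModule (pullback.snd f g) _ hW hV'
    inf_le_right x' hx'W] at key
  subst hq
  letI modA'G : Module Γ(Spec A', ⊤)
      Γ((Scheme.Modules.pullback (pullback.fst f g)).obj F, W) :=
    Module.compHom _ ((pullback.snd f g).appLE ⊤ W inf_le_right).hom
  haveI towG : IsScalarTower Γ(Spec A', ⊤) Γ(pullback f g, W)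
      Γ((Scheme.Modules.pullback (pullback.fst f g)).obj F, W) :=
    IsScalarTower.of_algebraMap_smul fun _ _ => rfl
  let e0 := sectionsPullbackEquiv (pullback.fst f g) F hW hU inf_le_left
  let f1 := LocalizedModule.mkLinearMap
    (hW.primeIdealOf ⟨x', hx'W⟩).asIdeal.primeCompl
    (Γ(pullback f g, W) ⊗[Γ(X, U)] Γ(F, U))
  haveI : IsLocalizedModule (hW.primeIdealOf ⟨x', hx'W⟩).asIdeal.primeCompl
      (f1 ∘ₗ e0.toLinearMap) := IsLocalizedModule.of_linearEquiv_right _ _ e0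
  let e1 := IsLocalizedModule.linearEquiv (hW.primeIdealOf ⟨x', hx'W⟩).asIdeal.primeCompl
    (LocalizedModule.mkLinearMap (hW.primeIdealOf ⟨x', hx'W⟩).asIdeal.primeCompl
      Γ((Scheme.Modules.pullback (pullback.fst f g)).obj F, W))
    (f1 ∘ₗ e0.toLinearMap)
  exact Module.Flat.of_linearEquiv (e1.symm.restrictScalars Γ(Spec A', ⊤))

end Groth.Agent.Lib.Helper73.FamFlatAdic
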