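import Groth.Agent.Lib.Helper73.FamFlatAdic.LocalI
import Groth.Agent.Lib.Helper73.FamFlatNL.LocLoc

set_option autoImplicit false
set_option linter.style.haveILetI false
universe u
open TensorProduct

namespace Groth.Agent.Lib.Helper73.FamFlatAdic

attribute [local instance] Algebra.TensorProduct.rightAlgebra

open Groth.Agent.Lib.Helper73.FamFlatNL in
/-- EGA IV 11.5-type ring-level statement over a Noetherian base `R`, the family living over the
localization `R₀` of `R` at the prime below `𝔭`. -/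
theorem flat_localized_of_family_adic_ideal
    {R : Type u} [CommRing R] [IsNoetherianRing R]
    {B : Type u} [CommRing B] [Algebra R B] [IsNoetherianRing B]
    {M : Type u} [AddCommGroup M] [Module B M] [Module R M] [IsScalarTower R B M] [Module.Finite B M]
    (𝔭 : Ideal B) [𝔭.IsPrime] (𝔭₀ : Ideal R) [𝔭₀.IsPrime] (h𝔭₀ : 𝔭.comap (algebraMap R B) = 𝔭₀)
    (R₀ : Type u) [CommRing R₀] [IsLocalRing R₀] [Algebra R R₀] [IsLocalization.AtPrime R₀ 𝔭₀]
    {ι : Type u} (A' : ι → Type u) [∀ i, CommRing (A' i)]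
    [∀ i, Algebra R (A' i)] [∀ i, Algebra R₀ (A' i)] [∀ i, IsScalarTower R R₀ (A' i)]
    (I' : ∀ i, Ideal (A' i))
    (hI' : ∀ i, (IsLocalRing.maximalIdeal R₀).map (algebraMap R₀ (A' i)) ≤ I' i)
    (htop : ∀ N : ℕ, ∃ s : Finset (ι × ℕ),
      ⨅ p ∈ s, Ideal.comap (algebraMap R₀ (A' p.1)) (I' p.1 ^ p.2) ≤
        IsLocalRing.maximalIdeal R₀ ^ N)
    (B' : ι → Type u) [∀ i, CommRing (B' i)] [∀ i, Algebra R (B' i)] [∀ i, Algebra (A' i) (B' i)]
    [∀ i, Algebra B (B' i)] [∀ i, IsScalarTower R (A' i) (B' i)] [∀ i, IsScalarTower R B (B' i)]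
    [∀ i, Algebra.IsPushout R (A' i) B (B' i)]
    (hflat : ∀ (i : ι) (𝔮 : Ideal (B' i)) [𝔮.IsPrime],
        𝔮.comap (algebraMap B (B' i)) = 𝔭 →
        I' i ≤ 𝔮.comap (algebraMap (A' i) (B' i)) →
        Module.Flat (A' i) (LocalizedModule 𝔮.primeCompl (B' i ⊗[B] M))) :
    Module.Flat R (LocalizedModule 𝔭.primeCompl M) := by
  haveI noeR₀ : IsNoetherianRing R₀ := IsLocalization.isNoetherianRing 𝔭₀.primeCompl R₀ inferInstance
  haveI locB₀ : IsLocalization (Algebra.algebraMapSubmonoid B 𝔭₀.primeCompl) (R₀ ⊗[R] B) :=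
    inferInstance
  haveI noeB₀ : IsNoetherianRing (R₀ ⊗[R] B) :=
    IsLocalization.isNoetherianRing (Algebra.algebraMapSubmonoid B 𝔭₀.primeCompl) _ inferInstance
  -- the prime of `B₀`
  have hdisj : Disjoint (Algebra.algebraMapSubmonoid B 𝔭₀.primeCompl : Set B) (𝔭 : Set B) := by
    rw [Set.disjoint_left]
    rintro _ ⟨r, hr, rfl⟩ hmem
    apply hr
    rw [← h𝔭₀]
    exact hmem
  let 𝔭' : Ideal (R₀ ⊗[R] B) := 𝔭.map (algebraMap B (R₀ ⊗[R] B))
  haveI h𝔭' : 𝔭'.IsPrime :=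
    IsLocalization.isPrime_of_isPrime_disjoint (Algebra.algebraMapSubmonoid B 𝔭₀.primeCompl) _ 𝔭
      inferInstance hdisj
  have hcomap : 𝔭'.comap (algebraMap B (R₀ ⊗[R] B)) = 𝔭 :=
    IsLocalization.comap_map_of_isPrime_disjoint (Algebra.algebraMapSubmonoid B 𝔭₀.primeCompl) _
      inferInstance hdisj
  have h𝔭'max : 𝔭'.comap (algebraMap R₀ (R₀ ⊗[R] B)) = IsLocalRing.maximalIdeal R₀ := by
    have h1 : (𝔭'.comap (algebraMap R₀ (R₀ ⊗[R] B))).comap (algebraMap R R₀) = 𝔭₀ := by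
      rw [Ideal.comap_comap, ← IsScalarTower.algebraMap_eq,
        IsScalarTower.algebraMap_eq R B (R₀ ⊗[R] B), ← Ideal.comap_comap, hcomap, h𝔭₀]
    have h2 : (IsLocalRing.maximalIdeal R₀).comap (algebraMap R R₀) = 𝔭₀ :=
      IsLocalization.AtPrime.comap_maximalIdeal R₀ 𝔭₀
    have h3 := IsLocalization.map_comap 𝔭₀.primeCompl R₀ (𝔭'.comap (algebraMap R₀ (R₀ ⊗[R] B)))
    have h4 := IsLocalization.map_comap 𝔭₀.primeCompl R₀ (IsLocalRing.maximalIdeal R₀)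
    rw [← h3, ← h4]
    exact congrArg (Ideal.map (algebraMap R R₀)) (h1.trans h2.symm)
  -- algebra structures over `R₀`
  letI algR₀B' : ∀ i, Algebra R₀ (B' i) := fun i =>
    ((algebraMap (A' i) (B' i)).comp (algebraMap R₀ (A' i))).toAlgebra
  haveI tow2 : ∀ i, IsScalarTower R₀ (A' i) (B' i) := fun i =>
    IsScalarTower.of_algebraMap_eq' rfl
  haveI tow3 : ∀ i, IsScalarTower R R₀ (B' i) := fun i => by
    refine IsScalarTower.of_algebraMap_eq (R := R) (S := R₀) (A := B' i) fun a => ?_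
    rw [IsScalarTower.algebraMap_apply R (A' i) (B' i),
      IsScalarTower.algebraMap_apply R R₀ (A' i)]
    rfl
  letI algB₀B' : ∀ i, Algebra (R₀ ⊗[R] B) (B' i) := fun i =>
    (Algebra.TensorProduct.lift (IsScalarTower.toAlgHom R R₀ (B' i))
      (IsScalarTower.toAlgHom R B (B' i)) (fun _ _ => Commute.all _ _)).toRingHom.toAlgebra
  have halg : ∀ i (a : R₀) (b : B), algebraMap (R₀ ⊗[R] B) (B' i) (a ⊗ₜ b) =
      algebraMap R₀ (B' i) a * algebraMap B (B' i) b := fun i a b =>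
    Algebra.TensorProduct.lift_tmul _ _ _ a b
  haveI tow4 : ∀ i, IsScalarTower R₀ (R₀ ⊗[R] B) (B' i) := fun i => by
      refine IsScalarTower.of_algebraMap_eq (R := R₀) (S := R₀ ⊗[R] B) (A := B' i)
        fun a => ?_
      change _ = algebraMap (R₀ ⊗[R] B) (B' i) (a ⊗ₜ[R] (1 : B))
      rw [halg, map_one, mul_one]
  haveI tow5 : ∀ i, IsScalarTower B (R₀ ⊗[R] B) (B' i) := fun i => by
      refine IsScalarTower.of_algebraMap_eq (R := B) (S := R₀ ⊗[R] B) (A := B' i)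
        fun b => ?_
      change _ = algebraMap (R₀ ⊗[R] B) (B' i) ((1 : R₀) ⊗ₜ[R] b)
      rw [halg, map_one, one_mul]
  haveI tow6 : ∀ i, IsScalarTower R (R₀ ⊗[R] B) (B' i) := fun i => by
      refine IsScalarTower.of_algebraMap_eq (R := R) (S := R₀ ⊗[R] B) (A := B' i)
        fun a => ?_
      rw [IsScalarTower.algebraMap_apply R R₀ (R₀ ⊗[R] B),
        ← IsScalarTower.algebraMap_apply R₀ (R₀ ⊗[R] B) (B' i),
        ← IsScalarTower.algebraMap_apply R R₀ (B' i)]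
  haveI hP : ∀ i, Algebra.IsPushout R₀ (A' i) (R₀ ⊗[R] B) (B' i) := fun i =>
    (Algebra.IsPushout.comp_iff R R₀ (T := A' i) B (R₀ ⊗[R] B) (T' := B' i)).mp
      inferInstance
  -- apply the local statement
  have hcore : Module.Flat R₀ (LocalizedModule 𝔭'.primeCompl ((R₀ ⊗[R] B) ⊗[B] M)) := by
    refine flat_localized_of_family_adic_local_ideal (A := R₀) (B := R₀ ⊗[R] B)
      (M := (R₀ ⊗[R] B) ⊗[B] M) 𝔭' h𝔭'max A' I' hI' htop B' ?_
    intro i 𝔮 h𝔮 hq hqA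
    have hq' : 𝔮.comap (algebraMap B (B' i)) = 𝔭 := by
      rw [IsScalarTower.algebraMap_eq B (R₀ ⊗[R] B) (B' i), ← Ideal.comap_comap, hq, hcomap]
    have key := hflat i 𝔮 hq' hqA
    let e0 := TensorProduct.AlgebraTensorModule.cancelBaseChange B (R₀ ⊗[R] B) (B' i) (B' i) M
    let f1 := LocalizedModule.mkLinearMap 𝔮.primeCompl (B' i ⊗[B] M)
    haveI : IsLocalizedModule 𝔮.primeCompl (f1 ∘ₗ e0.toLinearMap) :=
      IsLocalizedModule.of_linearEquiv_right _ _ e0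
    let e1 := IsLocalizedModule.linearEquiv 𝔮.primeCompl
      (LocalizedModule.mkLinearMap 𝔮.primeCompl
        (B' i ⊗[R₀ ⊗[R] B] ((R₀ ⊗[R] B) ⊗[B] M)))
      (f1 ∘ₗ e0.toLinearMap)
    exact Module.Flat.of_linearEquiv (e1.restrictScalars (A' i))
  -- back to `M_𝔭`
  let j : M →ₗ[B] (R₀ ⊗[R] B) ⊗[B] M := TensorProduct.mk B (R₀ ⊗[R] B) M 1
  haveI hj : IsLocalizedModule (Algebra.algebraMapSubmonoid B 𝔭₀.primeCompl) j :=
    (isLocalizedModule_iff_isBaseChange (Algebra.algebraMapSubmonoid B 𝔭₀.primeCompl)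
      (R₀ ⊗[R] B) j).mpr (TensorProduct.isBaseChange B M (R₀ ⊗[R] B))
  let k := LocalizedModule.mkLinearMap 𝔭'.primeCompl ((R₀ ⊗[R] B) ⊗[B] M)
  have hkj := isLocalizedModule_comp_atPrime (Algebra.algebraMapSubmonoid B 𝔭₀.primeCompl) j 𝔭' k
  have hS : (𝔭'.comap (algebraMap B (R₀ ⊗[R] B))).primeCompl = 𝔭.primeCompl := by
    ext x
    simp only [Ideal.mem_primeCompl_iff]
    rw [hcomap]
  rw [hS] at hkj
  let e := IsLocalizedModule.linearEquiv 𝔭.primeCompl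
    (LocalizedModule.mkLinearMap 𝔭.primeCompl M) ((k.restrictScalars B) ∘ₗ j)
  haveI hflR : Module.Flat R (LocalizedModule 𝔭'.primeCompl ((R₀ ⊗[R] B) ⊗[B] M)) :=
    (Module.flat_iff_of_isLocalization R₀ 𝔭₀.primeCompl
      (LocalizedModule 𝔭'.primeCompl ((R₀ ⊗[R] B) ⊗[B] M))).mp hcore
  exact Module.Flat.of_linearEquiv (e.restrictScalars R)

end Groth.Agent.Lib.Helper73.FamFlatAdic
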