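import Groth.Agent.Lib.Helper73.FamFlatAdic.QL
import Groth.Agent.Lib.Helper73.FamFlatNL.Core

set_option autoImplicit false
set_option linter.style.haveILetI false
universe u
open TensorProduct

namespace Groth.Agent.Lib.Helper73.FamFlatAdic

attribute [local instance] Algebra.TensorProduct.rightAlgebra

open Groth.Agent.Lib.Helper73.FamFlatNL in
/-- The Artinian core, relative to a quotient `A → A ⧸ 𝔞` with nilpotent maximal ideal. -/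
theorem flat_quot_of_family
    {A : Type u} [CommRing A] [IsLocalRing A]
    {B : Type u} [CommRing B] [Algebra A B] [IsNoetherianRing B]
    {M : Type u} [AddCommGroup M] [Module B M] [Module A M] [IsScalarTower A B M] [Module.Finite B M]
    (𝔭 : Ideal B) [𝔭.IsPrime] (h𝔭 : 𝔭.comap (algebraMap A B) = IsLocalRing.maximalIdeal A)
    (𝔞 : Ideal A) (h𝔞 : 𝔞 ≠ ⊤) (hK : ∃ K : ℕ, IsLocalRing.maximalIdeal A ^ K ≤ 𝔞)
    {J : Type u} (X : J → Type u) [∀ p, CommRing (X p)] [∀ p, Algebra A (X p)]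
    (hker : ∀ a : A, (∀ p, algebraMap A (X p) a = 0) → a ∈ 𝔞)
    (h𝔞X : ∀ p, ∀ a ∈ 𝔞, algebraMap A (X p) a = 0)
    (B'' : J → Type u) [∀ p, CommRing (B'' p)] [∀ p, Algebra A (B'' p)] [∀ p, Algebra (X p) (B'' p)]
    [∀ p, Algebra B (B'' p)] [∀ p, IsScalarTower A (X p) (B'' p)] [∀ p, IsScalarTower A B (B'' p)]
    [∀ p, Algebra.IsPushout A (X p) B (B'' p)]
    (hflat : ∀ (p : J) (𝔮 : Ideal (B'' p)) [𝔮.IsPrime],
        𝔮.comap (algebraMap B (B'' p)) = 𝔭 →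
        Module.Flat (X p) (LocalizedModule 𝔮.primeCompl (B'' p ⊗[B] M))) :
    Module.Flat (A ⧸ 𝔞) ((A ⧸ 𝔞) ⊗[A] LocalizedModule 𝔭.primeCompl M) := by
  have hsurj : Function.Surjective (algebraMap A (A ⧸ 𝔞)) := Ideal.Quotient.mk_surjective
  haveI : Nontrivial (A ⧸ 𝔞) := Ideal.Quotient.nontrivial_iff.mpr h𝔞
  haveI locAb : IsLocalRing (A ⧸ 𝔞) := IsLocalRing.of_surjective' (Ideal.Quotient.mk 𝔞)
    Ideal.Quotient.mk_surjective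
  have h𝔞le : 𝔞 ≤ IsLocalRing.maximalIdeal A := IsLocalRing.le_maximalIdeal h𝔞
  -- nilpotency
  have hnil : IsNilpotent (IsLocalRing.maximalIdeal (A ⧸ 𝔞)) := by
    obtain ⟨K, hK⟩ := hK
    refine ⟨K, ?_⟩
    have h1 : IsLocalRing.maximalIdeal (A ⧸ 𝔞) ≤
        (IsLocalRing.maximalIdeal A).map (Ideal.Quotient.mk 𝔞) := by
      intro x hx
      obtain ⟨a, rfl⟩ := Ideal.Quotient.mk_surjective x
      refine Ideal.mem_map_of_mem _ ?_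
      rw [IsLocalRing.mem_maximalIdeal, mem_nonunits_iff] at hx ⊢
      intro hu
      exact hx (hu.map _)
    rw [Ideal.zero_eq_bot, ← le_bot_iff]
    refine (Ideal.pow_right_mono h1 K).trans ?_
    rw [← Ideal.map_pow, le_bot_iff, Ideal.map_eq_bot_iff_le_ker, Ideal.mk_ker]
    exact hK
  -- the base-changed algebra
  have hsB : Function.Surjective (algebraMap B ((A ⧸ 𝔞) ⊗[A] B)) :=
    surjective_of_isPushout (A := A) hsurj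
  haveI noeBb : IsNoetherianRing ((A ⧸ 𝔞) ⊗[A] B) :=
    isNoetherianRing_of_surjective B _ (algebraMap B ((A ⧸ 𝔞) ⊗[A] B)) hsB
  -- the prime of `Bb` above `𝔭`
  have h0 : ∀ a : A, a ∈ 𝔞 → (Algebra.ofId A (B ⧸ 𝔭)) a = 0 := by
    intro a ha
    have h1 : a ∈ 𝔭.comap (algebraMap A B) := by rw [h𝔭]; exact h𝔞le ha
    change algebraMap A (B ⧸ 𝔭) a = 0
    rw [IsScalarTower.algebraMap_apply A B (B ⧸ 𝔭)]
    exact Ideal.Quotient.eq_zero_iff_mem.mpr h1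
  let Φ : (A ⧸ 𝔞) ⊗[A] B →ₐ[A] B ⧸ 𝔭 :=
    Algebra.TensorProduct.lift (Ideal.Quotient.liftₐ 𝔞 (Algebra.ofId A (B ⧸ 𝔭)) h0)
      (IsScalarTower.toAlgHom A B (B ⧸ 𝔭)) (fun _ _ => Commute.all _ _)
  let 𝔭b : Ideal ((A ⧸ 𝔞) ⊗[A] B) := RingHom.ker Φ.toRingHom
  haveI h𝔭b : 𝔭b.IsPrime := RingHom.ker_isPrime Φ.toRingHom
  have hcomap : 𝔭b.comap (algebraMap B ((A ⧸ 𝔞) ⊗[A] B)) = 𝔭 := by
    ext x
    rw [Ideal.mem_comap]
    change Φ ((1 : A ⧸ 𝔞) ⊗ₜ[A] x) = 0 ↔ _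
    rw [Algebra.TensorProduct.lift_tmul, map_one, one_mul]
    exact Ideal.Quotient.eq_zero_iff_mem
  -- algebra structures over `A ⧸ 𝔞`
  letI algAbX : ∀ p, Algebra (A ⧸ 𝔞) (X p) := fun p =>
    (Ideal.Quotient.lift 𝔞 (algebraMap A (X p)) (h𝔞X p)).toAlgebra
  haveI tow1 : ∀ p, IsScalarTower A (A ⧸ 𝔞) (X p) := fun p =>
    IsScalarTower.of_algebraMap_eq fun a => rfl
  letI algAbB'' : ∀ p, Algebra (A ⧸ 𝔞) (B'' p) := fun p =>
    ((algebraMap (X p) (B'' p)).comp (algebraMap (A ⧸ 𝔞) (X p))).toAlgebra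
  haveI tow2 : ∀ p, IsScalarTower (A ⧸ 𝔞) (X p) (B'' p) := fun p =>
    IsScalarTower.of_algebraMap_eq' rfl
  haveI tow3 : ∀ p, IsScalarTower A (A ⧸ 𝔞) (B'' p) := fun p => by
    refine IsScalarTower.of_algebraMap_eq (R := A) (S := A ⧸ 𝔞) (A := B'' p) fun a => ?_
    rw [IsScalarTower.algebraMap_apply A (X p) (B'' p)]
    rfl
  letI algBbB'' : ∀ p, Algebra ((A ⧸ 𝔞) ⊗[A] B) (B'' p) := fun p =>
    (Algebra.TensorProduct.lift (IsScalarTower.toAlgHom A (A ⧸ 𝔞) (B'' p))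
      (IsScalarTower.toAlgHom A B (B'' p)) (fun _ _ => Commute.all _ _)).toRingHom.toAlgebra
  have halg : ∀ p (a : A ⧸ 𝔞) (b : B), algebraMap ((A ⧸ 𝔞) ⊗[A] B) (B'' p) (a ⊗ₜ b) =
      algebraMap (A ⧸ 𝔞) (B'' p) a * algebraMap B (B'' p) b := fun p a b =>
    Algebra.TensorProduct.lift_tmul _ _ _ a b
  haveI tow4 : ∀ p, IsScalarTower (A ⧸ 𝔞) ((A ⧸ 𝔞) ⊗[A] B) (B'' p) := fun p => by
      refine IsScalarTower.of_algebraMap_eq (R := A ⧸ 𝔞) (S := (A ⧸ 𝔞) ⊗[A] B) (A := B'' p)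
        fun a => ?_
      change _ = algebraMap ((A ⧸ 𝔞) ⊗[A] B) (B'' p) (a ⊗ₜ[A] (1 : B))
      rw [halg, map_one, mul_one]
  haveI tow5 : ∀ p, IsScalarTower B ((A ⧸ 𝔞) ⊗[A] B) (B'' p) := fun p => by
      refine IsScalarTower.of_algebraMap_eq (R := B) (S := (A ⧸ 𝔞) ⊗[A] B) (A := B'' p)
        fun b => ?_
      change _ = algebraMap ((A ⧸ 𝔞) ⊗[A] B) (B'' p) ((1 : A ⧸ 𝔞) ⊗ₜ[A] b)
      rw [halg, map_one, one_mul]
  haveI tow6 : ∀ p, IsScalarTower A ((A ⧸ 𝔞) ⊗[A] B) (B'' p) := fun p =>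
    by
      refine IsScalarTower.of_algebraMap_eq (R := A) (S := (A ⧸ 𝔞) ⊗[A] B) (A := B'' p)
        fun a => ?_
      rw [IsScalarTower.algebraMap_apply A (A ⧸ 𝔞) ((A ⧸ 𝔞) ⊗[A] B),
        ← IsScalarTower.algebraMap_apply (A ⧸ 𝔞) ((A ⧸ 𝔞) ⊗[A] B) (B'' p),
        ← IsScalarTower.algebraMap_apply A (A ⧸ 𝔞) (B'' p)]
  haveI hP : ∀ p, Algebra.IsPushout (A ⧸ 𝔞) (X p) ((A ⧸ 𝔞) ⊗[A] B) (B'' p) := fun p =>
    (Algebra.IsPushout.comp_iff A (A ⧸ 𝔞) (T := X p) B ((A ⧸ 𝔞) ⊗[A] B) (T' := B'' p)).mp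
      inferInstance
  -- apply the non-local core over `A ⧸ 𝔞`
  have hcore : Module.Flat (A ⧸ 𝔞)
      (LocalizedModule 𝔭b.primeCompl (((A ⧸ 𝔞) ⊗[A] B) ⊗[B] M)) := by
    refine flat_localized_of_family_nl (A := A ⧸ 𝔞) hnil (B := (A ⧸ 𝔞) ⊗[A] B)
      (M := ((A ⧸ 𝔞) ⊗[A] B) ⊗[B] M) 𝔭b (ι := J) X ?_ B'' ?_
    · intro ab hab
      obtain ⟨a, rfl⟩ := Ideal.Quotient.mk_surjective ab
      have h1 : a ∈ 𝔞 := hker a (fun p => hab p)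
      exact Ideal.Quotient.eq_zero_iff_mem.mpr h1
    · intro p 𝔮 h𝔮 hq
      have hq' : 𝔮.comap (algebraMap B (B'' p)) = 𝔭 := by
        rw [IsScalarTower.algebraMap_eq B ((A ⧸ 𝔞) ⊗[A] B) (B'' p), ← Ideal.comap_comap, hq,
          hcomap]
      have key := hflat p 𝔮 hq'
      let e0 := TensorProduct.AlgebraTensorModule.cancelBaseChange B ((A ⧸ 𝔞) ⊗[A] B)
        (B'' p) (B'' p) M
      let f1 := LocalizedModule.mkLinearMap 𝔮.primeCompl (B'' p ⊗[B] M)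
      haveI : IsLocalizedModule 𝔮.primeCompl (f1 ∘ₗ e0.toLinearMap) :=
        IsLocalizedModule.of_linearEquiv_right _ _ e0
      let e1 := IsLocalizedModule.linearEquiv 𝔮.primeCompl
        (LocalizedModule.mkLinearMap 𝔮.primeCompl
          (B'' p ⊗[(A ⧸ 𝔞) ⊗[A] B] (((A ⧸ 𝔞) ⊗[A] B) ⊗[B] M)))
        (f1 ∘ₗ e0.toLinearMap)
      exact Module.Flat.of_linearEquiv (e1.restrictScalars (X p))
  obtain ⟨e⟩ := exists_equiv_quot_loc (A := A) (Ab := A ⧸ 𝔞) (B := B) (Bb := (A ⧸ 𝔞) ⊗[A] B)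
    hsurj (N := M) 𝔭b 𝔭 hcomap
  exact Module.Flat.of_linearEquiv e.symm

end Groth.Agent.Lib.Helper73.FamFlatAdic
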