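import Groth.Agent.Lib.Helper73.FamFlatAdic.Key
import Groth.Agent.Lib.Helper24.LocalCritPow

set_option autoImplicit false
set_option linter.style.haveILetI false
universe u
open TensorProduct

namespace Groth.Agent.Lib.Helper73.FamFlatAdic

attribute [local instance] Algebra.TensorProduct.rightAlgebra

/-- transfer of the flatness hypothesis to the quotient `A' ⧸ I`. -/
theorem flat_quot_transfer_ideal
    {B M A' B' : Type u} [CommRing B] [AddCommGroup M] [Module B M]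
    [CommRing A'] [CommRing B'] [Algebra A' B'] [Algebra B B'] (I' : Ideal A')
    (n : ℕ) (𝔭 : Ideal B)
    (hflat : ∀ (𝔮 : Ideal B') [𝔮.IsPrime],
        𝔮.comap (algebraMap B B') = 𝔭 →
        I' ≤ 𝔮.comap (algebraMap A' B') →
        Module.Flat A' (LocalizedModule 𝔮.primeCompl (B' ⊗[B] M)))
    [Algebra B ((A' ⧸ I' ^ n) ⊗[A'] B')]
    [IsScalarTower B B' ((A' ⧸ I' ^ n) ⊗[A'] B')]
    (𝔮 : Ideal ((A' ⧸ I' ^ n) ⊗[A'] B')) [𝔮.IsPrime]
    (hq : 𝔮.comap (algebraMap B ((A' ⧸ I' ^ n) ⊗[A'] B')) = 𝔭) :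
    Module.Flat (A' ⧸ I' ^ n)
      (LocalizedModule 𝔮.primeCompl (((A' ⧸ I' ^ n) ⊗[A'] B') ⊗[B] M)) := by
  have hsurj : Function.Surjective (algebraMap A' (A' ⧸ I' ^ n)) :=
    Ideal.Quotient.mk_surjective
  have h1 : (𝔮.comap (algebraMap B' ((A' ⧸ I' ^ n) ⊗[A'] B'))).comap
      (algebraMap B B') = 𝔭 := by
    rw [Ideal.comap_comap, ← IsScalarTower.algebraMap_eq, hq]
  have h2 : I' ≤ (𝔮.comap (algebraMap B' ((A' ⧸ I' ^ n) ⊗[A'] B'))).comap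
      (algebraMap A' B') := by
    rw [Ideal.comap_comap, ← IsScalarTower.algebraMap_eq]
    intro a ha
    rw [Ideal.mem_comap]
    apply Ideal.IsPrime.mem_of_pow_mem inferInstance n
    rw [← map_pow]
    have h3 : a ^ n ∈ I' ^ n := Ideal.pow_mem_pow ha n
    have h4 : algebraMap A' ((A' ⧸ I' ^ n) ⊗[A'] B') (a ^ n) = 0 := by
      rw [IsScalarTower.algebraMap_apply A' (A' ⧸ I' ^ n)
        ((A' ⧸ I' ^ n) ⊗[A'] B')]
      have : algebraMap A' (A' ⧸ I' ^ n) (a ^ n) = 0 :=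
        Ideal.Quotient.eq_zero_iff_mem.mpr h3
      rw [this, map_zero]
    rw [h4]
    exact Ideal.zero_mem _
  have key := hflat (𝔮.comap (algebraMap B' ((A' ⧸ I' ^ n) ⊗[A'] B')))
    h1 h2
  obtain ⟨e⟩ := exists_equiv_quot_loc (A := A') (Ab := A' ⧸ I' ^ n)
    (B := B') (Bb := (A' ⧸ I' ^ n) ⊗[A'] B') hsurj (N := B' ⊗[B] M) 𝔮
    (𝔮.comap (algebraMap B' ((A' ⧸ I' ^ n) ⊗[A'] B'))) rfl
  haveI hfl1 : Module.Flat (A' ⧸ I' ^ n)
      (LocalizedModule 𝔮.primeCompl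
        (((A' ⧸ I' ^ n) ⊗[A'] B') ⊗[B'] (B' ⊗[B] M))) :=
    Module.Flat.of_linearEquiv e
  let e0 := TensorProduct.AlgebraTensorModule.cancelBaseChange B B'
    ((A' ⧸ I' ^ n) ⊗[A'] B')
    ((A' ⧸ I' ^ n) ⊗[A'] B') M
  let f1 := LocalizedModule.mkLinearMap 𝔮.primeCompl
    (((A' ⧸ I' ^ n) ⊗[A'] B') ⊗[B] M)
  haveI : IsLocalizedModule 𝔮.primeCompl (f1 ∘ₗ e0.toLinearMap) :=
    IsLocalizedModule.of_linearEquiv_right _ _ e0
  let e1 := IsLocalizedModule.linearEquiv 𝔮.primeCompl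
    (LocalizedModule.mkLinearMap 𝔮.primeCompl
      (((A' ⧸ I' ^ n) ⊗[A'] B') ⊗[B'] (B' ⊗[B] M)))
    (f1 ∘ₗ e0.toLinearMap)
  exact Module.Flat.of_linearEquiv
    (e1.symm.restrictScalars (A' ⧸ I' ^ n))


/-- EGA IV 11.5-type ring-level statement, local base. -/
theorem flat_localized_of_family_adic_local_ideal
    {A : Type u} [CommRing A] [IsLocalRing A] [IsNoetherianRing A]
    {B : Type u} [CommRing B] [Algebra A B] [IsNoetherianRing B]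
    {M : Type u} [AddCommGroup M] [Module B M] [Module A M] [IsScalarTower A B M] [Module.Finite B M]
    (𝔭 : Ideal B) [𝔭.IsPrime] (h𝔭 : 𝔭.comap (algebraMap A B) = IsLocalRing.maximalIdeal A)
    {ι : Type u} (A' : ι → Type u) [∀ i, CommRing (A' i)]
    [∀ i, Algebra A (A' i)] (I' : ∀ i, Ideal (A' i))
    (hI' : ∀ i, (IsLocalRing.maximalIdeal A).map (algebraMap A (A' i)) ≤ I' i)
    (htop : ∀ N : ℕ, ∃ s : Finset (ι × ℕ),
      ⨅ p ∈ s, Ideal.comap (algebraMap A (A' p.1)) (I' p.1 ^ p.2) ≤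
        IsLocalRing.maximalIdeal A ^ N)
    (B' : ι → Type u) [∀ i, CommRing (B' i)] [∀ i, Algebra A (B' i)] [∀ i, Algebra (A' i) (B' i)]
    [∀ i, Algebra B (B' i)] [∀ i, IsScalarTower A (A' i) (B' i)] [∀ i, IsScalarTower A B (B' i)]
    [∀ i, Algebra.IsPushout A (A' i) B (B' i)]
    (hflat : ∀ (i : ι) (𝔮 : Ideal (B' i)) [𝔮.IsPrime],
        𝔮.comap (algebraMap B (B' i)) = 𝔭 →
        I' i ≤ 𝔮.comap (algebraMap (A' i) (B' i)) →
        Module.Flat (A' i) (LocalizedModule 𝔮.primeCompl (B' i ⊗[B] M))) :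
    Module.Flat A (LocalizedModule 𝔭.primeCompl M) := by
  classical
  refine Groth.Agent.Lib.Helper24.LocalCritPow.flat_of_forall_flat_quotient_pow A
    (Localization.AtPrime 𝔭) (LocalizedModule 𝔭.primeCompl M) (IsLocalRing.maximalIdeal A) ?_ ?_
  · rw [IsLocalRing.jacobson_eq_maximalIdeal ⊥ bot_ne_top, Ideal.map_le_iff_le_comap]
    intro a ha
    rw [← h𝔭] at ha
    have h1 : algebraMap A B a ∈ 𝔭 := ha
    rw [Ideal.mem_comap, IsScalarTower.algebraMap_apply A B (Localization.AtPrime 𝔭),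
      ← Localization.AtPrime.map_eq_maximalIdeal]
    exact Ideal.mem_map_of_mem _ h1
  intro N _
  obtain ⟨s, hs⟩ := htop N
  set 𝔞 : Ideal A := ⨅ p ∈ s, Ideal.comap (algebraMap A (A' p.1))
    (I' p.1 ^ p.2) with h𝔞def
  have hmem : ∀ a : A, a ∈ 𝔞 ↔ ∀ p ∈ s, algebraMap A (A' p.1) a ∈
      I' p.1 ^ p.2 := by
    intro a
    simp only [h𝔞def, Ideal.mem_iInf, Ideal.mem_comap]
  by_cases h𝔞 : 𝔞 = ⊤
  · have htop' : IsLocalRing.maximalIdeal A ^ N = ⊤ := top_le_iff.mp (h𝔞 ▸ hs)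
    haveI : Subsingleton (A ⧸ IsLocalRing.maximalIdeal A ^ N) :=
      Ideal.Quotient.subsingleton_iff.mpr htop'
    haveI : Subsingleton ((A ⧸ IsLocalRing.maximalIdeal A ^ N) ⊗[A]
        LocalizedModule 𝔭.primeCompl M) :=
      Module.subsingleton (A ⧸ IsLocalRing.maximalIdeal A ^ N) _
    infer_instance
  -- the key flatness over `A ⧸ 𝔞`
  have key : Module.Flat (A ⧸ 𝔞) ((A ⧸ 𝔞) ⊗[A] LocalizedModule 𝔭.primeCompl M) := by
    have hK : ∃ K : ℕ, IsLocalRing.maximalIdeal A ^ K ≤ 𝔞 := by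
      refine ⟨s.sup (fun p => p.2), ?_⟩
      intro a ha
      rw [hmem]
      intro p hp
      have hle : p.2 ≤ s.sup (fun p => p.2) := Finset.le_sup (f := fun p : ι × ℕ => p.2) hp
      have h1 : a ∈ IsLocalRing.maximalIdeal A ^ p.2 := Ideal.pow_le_pow_right hle ha
      have h2 : IsLocalRing.maximalIdeal A ≤
          (I' p.1).comap (algebraMap A (A' p.1)) := Ideal.map_le_iff_le_comap.mp (hI' p.1)
      exact Ideal.le_comap_pow _ _ (Ideal.pow_right_mono h2 p.2 h1)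
    letI algBB'' : ∀ p : {p : ι × ℕ // p ∈ s}, Algebra B
        ((A' p.1.1 ⧸ I' p.1.1 ^ p.1.2) ⊗[A' p.1.1] B' p.1.1) :=
      fun p => ((algebraMap (B' p.1.1)
        ((A' p.1.1 ⧸ I' p.1.1 ^ p.1.2) ⊗[A' p.1.1] B' p.1.1)).comp
        (algebraMap B (B' p.1.1))).toAlgebra
    haveI towBB'B'' : ∀ p : {p : ι × ℕ // p ∈ s}, IsScalarTower B (B' p.1.1)
        ((A' p.1.1 ⧸ I' p.1.1 ^ p.1.2) ⊗[A' p.1.1] B' p.1.1) :=
      fun p => IsScalarTower.of_algebraMap_eq' rfl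
    haveI towAB'B'' : ∀ p : {p : ι × ℕ // p ∈ s}, IsScalarTower A (B' p.1.1)
        ((A' p.1.1 ⧸ I' p.1.1 ^ p.1.2) ⊗[A' p.1.1] B' p.1.1) :=
      fun p => by
        refine IsScalarTower.of_algebraMap_eq (R := A) (S := B' p.1.1)
          (A := (A' p.1.1 ⧸ I' p.1.1 ^ p.1.2) ⊗[A' p.1.1] B' p.1.1)
          fun a => ?_
        rw [IsScalarTower.algebraMap_apply A (A' p.1.1) (B' p.1.1),
          ← IsScalarTower.algebraMap_apply (A' p.1.1) (B' p.1.1)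
            ((A' p.1.1 ⧸ I' p.1.1 ^ p.1.2) ⊗[A' p.1.1] B' p.1.1),
          IsScalarTower.algebraMap_apply (A' p.1.1)
            (A' p.1.1 ⧸ I' p.1.1 ^ p.1.2)
            ((A' p.1.1 ⧸ I' p.1.1 ^ p.1.2) ⊗[A' p.1.1] B' p.1.1),
          ← IsScalarTower.algebraMap_apply A (A' p.1.1)
            (A' p.1.1 ⧸ I' p.1.1 ^ p.1.2)]
        rfl
    haveI towABB'' : ∀ p : {p : ι × ℕ // p ∈ s}, IsScalarTower A B
        ((A' p.1.1 ⧸ I' p.1.1 ^ p.1.2) ⊗[A' p.1.1] B' p.1.1) :=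
      fun p => by
        refine IsScalarTower.of_algebraMap_eq (R := A) (S := B)
          (A := (A' p.1.1 ⧸ I' p.1.1 ^ p.1.2) ⊗[A' p.1.1] B' p.1.1)
          fun a => ?_
        rw [IsScalarTower.algebraMap_apply B (B' p.1.1)
            ((A' p.1.1 ⧸ I' p.1.1 ^ p.1.2) ⊗[A' p.1.1] B' p.1.1),
          ← IsScalarTower.algebraMap_apply A B (B' p.1.1),
          ← IsScalarTower.algebraMap_apply A (B' p.1.1)
            ((A' p.1.1 ⧸ I' p.1.1 ^ p.1.2) ⊗[A' p.1.1] B' p.1.1)]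
    haveI hPush : ∀ p : {p : ι × ℕ // p ∈ s}, Algebra.IsPushout A
        (A' p.1.1 ⧸ I' p.1.1 ^ p.1.2) B
        ((A' p.1.1 ⧸ I' p.1.1 ^ p.1.2) ⊗[A' p.1.1] B' p.1.1) :=
      fun p => (Algebra.IsPushout.comp_iff A (A' p.1.1)
        (T := A' p.1.1 ⧸ I' p.1.1 ^ p.1.2) B (B' p.1.1)
        (T' := (A' p.1.1 ⧸ I' p.1.1 ^ p.1.2) ⊗[A' p.1.1]
          B' p.1.1)).mpr inferInstance
    refine flat_quot_of_family (A := A) (B := B) (M := M) 𝔭 h𝔭 𝔞 h𝔞 hK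
      (J := {p : ι × ℕ // p ∈ s})
      (fun p => A' p.1.1 ⧸ I' p.1.1 ^ p.1.2) ?_ ?_
      (fun p => (A' p.1.1 ⧸ I' p.1.1 ^ p.1.2) ⊗[A' p.1.1] B' p.1.1) ?_
    · intro a ha
      rw [hmem]
      intro p hp
      have h1 := ha ⟨p, hp⟩
      rw [IsScalarTower.algebraMap_apply A (A' p.1) (A' p.1 ⧸ I' p.1 ^ p.2)]
        at h1
      exact Ideal.Quotient.eq_zero_iff_mem.mp h1
    · intro p a ha
      rw [IsScalarTower.algebraMap_apply A (A' p.1.1)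
        (A' p.1.1 ⧸ I' p.1.1 ^ p.1.2)]
      exact Ideal.Quotient.eq_zero_iff_mem.mpr ((hmem a).mp ha p.1 p.2)
    · intro p 𝔮 h𝔮 hq
      exact flat_quot_transfer_ideal (A' := A' p.1.1) (B' := B' p.1.1) (I' p.1.1) p.1.2 𝔭
        (hflat p.1.1) 𝔮 hq
  -- descend to `A ⧸ 𝔪 ^ N`
  letI : Algebra (A ⧸ 𝔞) (A ⧸ IsLocalRing.maximalIdeal A ^ N) :=
    (Ideal.Quotient.factor hs).toAlgebra
  haveI : IsScalarTower A (A ⧸ 𝔞) (A ⧸ IsLocalRing.maximalIdeal A ^ N) :=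
    IsScalarTower.of_algebraMap_eq' rfl
  let e := TensorProduct.AlgebraTensorModule.cancelBaseChange A (A ⧸ 𝔞)
    (A ⧸ IsLocalRing.maximalIdeal A ^ N) (A ⧸ IsLocalRing.maximalIdeal A ^ N)
    (LocalizedModule 𝔭.primeCompl M)
  exact Module.Flat.of_linearEquiv e.symm

end Groth.Agent.Lib.Helper73.FamFlatAdic
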