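import Mathlib

set_option autoImplicit false
universe u
open TensorProduct

namespace Groth.Agent.Lib.Helper73.FamFlatAdic

/-- Restricting a localization at a prime of `Bb` along a surjection `B → Bb`. -/
theorem isLocalizedModule_restrictScalars_of_surjective
    {B Bb : Type u} [CommRing B] [CommRing Bb] [Algebra B Bb]
    (hs : Function.Surjective (algebraMap B Bb))
    {P Z : Type u} [AddCommGroup P] [AddCommGroup Z] [Module Bb P] [Module B P]
    [IsScalarTower B Bb P] [Module Bb Z] [Module B Z] [IsScalarTower B Bb Z]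
    (𝔮b : Ideal Bb) [𝔮b.IsPrime] (k : P →ₗ[Bb] Z) [IsLocalizedModule 𝔮b.primeCompl k] :
    IsLocalizedModule (𝔮b.comap (algebraMap B Bb)).primeCompl (k.restrictScalars B) := by
  refine ⟨?_, ?_, ?_⟩
  · intro t
    have ht : algebraMap B Bb t ∈ 𝔮b.primeCompl := t.2
    have hu := IsLocalizedModule.map_units k ⟨algebraMap B Bb t, ht⟩
    rw [Module.End.isUnit_iff] at hu ⊢
    convert hu using 1
    ext z
    change (t : B) • z = algebraMap B Bb (t : B) • z
    rw [algebraMap_smul]
  · intro z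
    obtain ⟨⟨x, u⟩, hx⟩ := IsLocalizedModule.surj 𝔮b.primeCompl k z
    obtain ⟨b, hb⟩ := hs (u : Bb)
    have hbP : b ∈ (𝔮b.comap (algebraMap B Bb)).primeCompl := by
      intro hmem
      have h1 : algebraMap B Bb b ∈ 𝔮b := hmem
      rw [hb] at h1
      exact u.2 h1
    refine ⟨⟨x, ⟨b, hbP⟩⟩, ?_⟩
    change b • z = k x
    simp only at hx
    rw [← hx, ← algebraMap_smul Bb b z, hb]
    rfl
  · intro x1 x2 h
    have h' : k x1 = k x2 := h
    obtain ⟨u, hu⟩ := IsLocalizedModule.exists_of_eq (S := 𝔮b.primeCompl) (f := k) h'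
    obtain ⟨b, hb⟩ := hs (u : Bb)
    have hbP : b ∈ (𝔮b.comap (algebraMap B Bb)).primeCompl := by
      intro hmem
      have h1 : algebraMap B Bb b ∈ 𝔮b := hmem
      rw [hb] at h1
      exact u.2 h1
    refine ⟨⟨b, hbP⟩, ?_⟩
    change b • x1 = b • x2
    rw [← algebraMap_smul Bb b x1, ← algebraMap_smul Bb b x2, hb]
    exact hu

/-- Localization commutes with tensoring on the left. -/
theorem isLocalizedModule_lTensor {B : Type u} [CommRing B] (S : Submonoid B)
    {N N' : Type u} [AddCommGroup N] [AddCommGroup N'] [Module B N] [Module B N']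
    (g : N →ₗ[B] N') [IsLocalizedModule S g] (T : Type u) [AddCommGroup T] [Module B T] :
    IsLocalizedModule S (LinearMap.lTensor T g) := by
  have h2 : LinearMap.lTensor T g = (TensorProduct.comm B N' T).toLinearMap ∘ₗ
      ((TensorProduct.AlgebraTensorModule.rTensor B T g) ∘ₗ
        (TensorProduct.comm B T N).toLinearMap) := by
    ext t n
    simp
  rw [h2]
  haveI h1 : IsLocalizedModule S ((TensorProduct.AlgebraTensorModule.rTensor B T g) ∘ₗ
        (TensorProduct.comm B T N).toLinearMap) :=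
    IsLocalizedModule.of_linearEquiv_right S (TensorProduct.AlgebraTensorModule.rTensor B T g)
      (TensorProduct.comm B T N)
  exact IsLocalizedModule.of_linearEquiv S _ (TensorProduct.comm B N' T)

/-- In a pushout square with `A → Ab` surjective, `B → Bb` is surjective. -/
theorem surjective_of_isPushout
    {A Ab B Bb : Type u} [CommRing A] [CommRing Ab] [CommRing B] [CommRing Bb]
    [Algebra A Ab] [Algebra A B] [Algebra A Bb] [Algebra Ab Bb] [Algebra B Bb]
    [IsScalarTower A Ab Bb] [IsScalarTower A B Bb] [Algebra.IsPushout A Ab B Bb]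
    (hsurj : Function.Surjective (algebraMap A Ab)) :
    Function.Surjective (algebraMap B Bb) := by
  have hbc : IsBaseChange Ab (IsScalarTower.toAlgHom A B Bb).toLinearMap :=
    (inferInstance : Algebra.IsPushout A Ab B Bb).out
  intro x
  refine hbc.inductionOn x (fun x => ∃ b, algebraMap B Bb b = x) ⟨0, map_zero _⟩ ?_ ?_ ?_
  · intro b
    exact ⟨b, rfl⟩
  · rintro ab x ⟨b, rfl⟩
    obtain ⟨a, rfl⟩ := hsurj ab
    refine ⟨a • b, ?_⟩
    rw [Algebra.smul_def, map_mul, ← IsScalarTower.algebraMap_apply A B Bb,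
      IsScalarTower.algebraMap_apply A Ab Bb, Algebra.smul_def]
  · rintro x y ⟨b, rfl⟩ ⟨c, rfl⟩
    exact ⟨b + c, map_add _ _ _⟩

/-- **Quotient–localization lemma.** -/
theorem exists_equiv_quot_loc
    {A Ab B Bb : Type u} [CommRing A] [CommRing Ab] [CommRing B] [CommRing Bb]
    [Algebra A Ab] [Algebra A B] [Algebra A Bb] [Algebra Ab Bb] [Algebra B Bb]
    [IsScalarTower A Ab Bb] [IsScalarTower A B Bb] [Algebra.IsPushout A Ab B Bb]
    (hsurj : Function.Surjective (algebraMap A Ab))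
    {N : Type u} [AddCommGroup N] [Module B N] [Module A N] [IsScalarTower A B N]
    (𝔮b : Ideal Bb) [𝔮b.IsPrime] (𝔮 : Ideal B) [𝔮.IsPrime]
    (h𝔮 : 𝔮b.comap (algebraMap B Bb) = 𝔮) :
    Nonempty (LocalizedModule 𝔮b.primeCompl (Bb ⊗[B] N) ≃ₗ[Ab]
      Ab ⊗[A] LocalizedModule 𝔮.primeCompl N) := by
  subst h𝔮
  have hsB : Function.Surjective (algebraMap B Bb) := surjective_of_isPushout (A := A) hsurj
  let g := LocalizedModule.mkLinearMap (𝔮b.comap (algebraMap B Bb)).primeCompl N
  let k := LocalizedModule.mkLinearMap 𝔮b.primeCompl (Bb ⊗[B] N)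
  haveI h1 : IsLocalizedModule (𝔮b.comap (algebraMap B Bb)).primeCompl (k.restrictScalars B) :=
    isLocalizedModule_restrictScalars_of_surjective (P := Bb ⊗[B] N)
      (Z := LocalizedModule 𝔮b.primeCompl (Bb ⊗[B] N)) hsB 𝔮b k
  haveI h2 : IsLocalizedModule (𝔮b.comap (algebraMap B Bb)).primeCompl (LinearMap.lTensor Bb g) :=
    isLocalizedModule_lTensor _ g Bb
  let e1 : LocalizedModule 𝔮b.primeCompl (Bb ⊗[B] N) ≃ₗ[B]
      Bb ⊗[B] LocalizedModule (𝔮b.comap (algebraMap B Bb)).primeCompl N :=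
    IsLocalizedModule.linearEquiv (𝔮b.comap (algebraMap B Bb)).primeCompl
      (k.restrictScalars B) (LinearMap.lTensor Bb g)
  let e2 : Bb ⊗[B] LocalizedModule (𝔮b.comap (algebraMap B Bb)).primeCompl N ≃ₗ[Ab]
      Ab ⊗[A] LocalizedModule (𝔮b.comap (algebraMap B Bb)).primeCompl N :=
    Algebra.IsPushout.cancelBaseChange A Ab B Bb _
  let e1' : LocalizedModule 𝔮b.primeCompl (Bb ⊗[B] N) ≃ₗ[Ab]
      Bb ⊗[B] LocalizedModule (𝔮b.comap (algebraMap B Bb)).primeCompl N :=
    (e1.restrictScalars A).extendScalarsOfSurjective hsurj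
  exact ⟨e1'.trans e2⟩

end Groth.Agent.Lib.Helper73.FamFlatAdic
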